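import Cfsg.Agent.Lib.OneVanishing.Vanish
import Cfsg.Agent.Lib.Cores.Basic
import Cfsg.Agent.Lib.SylowInter.OddCyclic

/-!
# Solvable groups with one vanishing class of elements of order divisible by an odd prime
-/

set_option autoImplicit false

namespace Cfsg.Agent.Lib.OneVanishing.Main

open Cfsg.Agent.Lib Cfsg.Agent.Lib.Characters.Basic
open scoped commutatorElement

universe u

variable {G : Type u} [Group G] {p : ℕ}

/-- A vanishing element of order divisible by `p`. -/
def Van (p : ℕ) (x : G) : Prop := (∃ χ : Cfsg.IrrCharacter G, (χ : G → ℂ) x = 0) ∧ p ∣ orderOf x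

theorem van_lift {H : Type u} [Group H] (π : G →* H) (hπ : Function.Surjective π) {x : G}
    (h : Van p (π x)) : Van p x := by
  obtain ⟨⟨χ, hχ⟩, hd⟩ := h
  exact ⟨⟨⟨(χ : H → ℂ) ∘ π, isIrrCharacter_comp π hπ χ.2⟩, hχ⟩, hd.trans (orderOf_map_dvd π x)⟩

theorem dvd_orderOf_of_isPGroup [Fact p.Prime] {W : Subgroup G} (hW : IsPGroup p W) {u : G}
    (hu : u ∈ W) (hu1 : u ≠ 1) : p ∣ orderOf u := by
  obtain ⟨k, hk⟩ := IsPGroup.iff_orderOf.mp hW ⟨u, hu⟩
  rw [Subgroup.orderOf_mk] at hk
  rcases Nat.eq_zero_or_pos k with rfl | hk0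
  · exact absurd (orderOf_eq_one_iff.mp (by simpa using hk)) hu1
  · exact hk ▸ dvd_pow_self p hk0.ne'

variable [Finite G] [hp : Fact p.Prime]

/-- A `p`-group centralizes a normal subgroup of order `p`. -/
theorem commute_of_card (A : Subgroup G) [A.Normal] (hA : Nat.card A = p) {W : Subgroup G}
    (hW : IsPGroup p W) : ∀ w ∈ W, ∀ a ∈ A, w * a = a * w := by
  intro w hw a ha
  haveI : IsCyclic A := isCyclic_of_prime_card hA
  obtain ⟨k, hk⟩ := IsPGroup.iff_orderOf.mp hW ⟨w, hw⟩
  rw [Subgroup.orderOf_mk] at hk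
  have hc : Nat.card (MulAut A) = p - 1 := by
    rw [IsCyclic.card_mulAut, hA, Nat.totient_prime hp.out]
  have h1 : orderOf (MulAut.conjNormal w : MulAut A) = 1 := by
    refine Nat.eq_one_of_dvd_coprimes ?_ (hk ▸ orderOf_map_dvd (MulAut.conjNormal (H := A)) w)
      (hc ▸ orderOf_dvd_natCard _)
    exact Nat.Coprime.pow_left k ((Nat.Prime.coprime_iff_not_dvd hp.out).mpr fun h => by
      have h2 := hp.out.two_le
      have := Nat.le_of_dvd (by omega) h
      omega)
  have h2 := congrArg Subtype.val (DFunLike.congr_fun (orderOf_eq_one_iff.mp h1) ⟨a, ha⟩)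
  rw [MulAut.conjNormal_apply, MulAut.one_apply] at h2
  exact mul_inv_eq_iff_eq_mul.mp h2

/-- A normal `p`-subgroup larger than its centre of order `p` contains vanishing elements. -/
theorem exists_van_of_lt (A W : Subgroup G) [A.Normal] [W.Normal] (hA : Nat.card A = p)
    (hW : IsPGroup p W) (hAW : A ≤ W) (hne : W ≠ A)
    (hcen : ∀ z ∈ W, (∀ w ∈ W, w * z = z * w) → z ∈ A) : ∃ u, Van p u ∧ u ∉ A := by
  haveI : (A.subgroupOf W).Normal := Subgroup.normal_subgroupOf
  haveI : Nontrivial (W ⧸ A.subgroupOf W) := QuotientGroup.nontrivial_iff.mpr fun h =>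
    hne (le_antisymm (Subgroup.subgroupOf_eq_top.mp h) hAW)
  haveI := (hW.to_quotient (A.subgroupOf W)).center_nontrivial
  obtain ⟨⟨q, hq⟩, hq1⟩ := exists_ne (1 : Subgroup.center (W ⧸ A.subgroupOf W))
  obtain ⟨u, rfl⟩ := QuotientGroup.mk_surjective q
  have huA : (u : G) ∉ A := fun h => hq1 (Subtype.ext
    ((QuotientGroup.eq_one_iff u).mpr (Subgroup.mem_subgroupOf.mpr h)))
  obtain ⟨w, hw, hwu⟩ : ∃ w ∈ W, w * (u : G) ≠ u * w := by
    by_contra h
    push Not at h
    exact huA (hcen u u.2 h)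
  have hc : ⁅w, (u : G)⁆ ∈ A := by
    have h1 := Subgroup.mem_center_iff.mp hq (QuotientGroup.mk ⟨w, hw⟩)
    have h2 : (QuotientGroup.mk ⁅(⟨w, hw⟩ : W), u⁆ : W ⧸ A.subgroupOf W) = 1 := by
      rw [commutatorElement_def, QuotientGroup.mk_mul, QuotientGroup.mk_mul, QuotientGroup.mk_mul,
        h1, QuotientGroup.mk_inv, QuotientGroup.mk_inv]
      group
    exact Subgroup.mem_subgroupOf.mp ((QuotientGroup.eq_one_iff _).mp h2)
  refine ⟨u, ⟨Vanish.exists_zero_of_commutator (p := p) A hA (commute_of_card A hA hW w hw) hc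
    fun h => hwu (commutatorElement_eq_one_iff_mul_comm.mp h), ?_⟩, huA⟩
  exact dvd_orderOf_of_isPGroup hW u.2 fun h => huA (h ▸ A.one_mem)

omit [Finite G] in
/-- The preimage of the centre of the `p`-core of the quotient. -/
def top (p : ℕ) (N : Subgroup G) [N.Normal] : Subgroup G :=
  ((Subgroup.center (Cfsg.pCore p (G ⧸ N))).map (Cfsg.pCore p (G ⧸ N)).subtype).comap
    (QuotientGroup.mk' N)

instance top_normal (N : Subgroup G) [N.Normal] : (top p N).Normal :=
  (Cores.normal_map_subtype _ _).comap _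

theorem mem_top_iff {N : Subgroup G} [N.Normal] {x : G} :
    x ∈ top p N ↔ (x : G ⧸ N) ∈ Cfsg.pCore p (G ⧸ N) ∧
      ∀ w ∈ Cfsg.pCore p (G ⧸ N), w * (x : G ⧸ N) = (x : G ⧸ N) * w := by
  simp only [top, Subgroup.mem_comap, Subgroup.mem_map, QuotientGroup.mk'_apply,
    Subgroup.mem_center_iff]
  constructor
  · rintro ⟨z, hz, hzx⟩
    rw [← hzx]
    exact ⟨z.2, fun w hw => congrArg Subtype.val (hz ⟨w, hw⟩)⟩
  · rintro ⟨h1, h2⟩
    exact ⟨⟨_, h1⟩, fun w => Subtype.ext (h2 w w.2), rfl⟩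

theorem le_top (N : Subgroup G) [N.Normal] : N ≤ top p N := fun x hx => mem_top_iff.mpr (by
  rw [(QuotientGroup.eq_one_iff x).mpr hx]
  exact ⟨one_mem _, fun w _ => by rw [mul_one, one_mul]⟩)

theorem commutator_top_le (N : Subgroup G) [N.Normal] : ⁅top p N, top p N⁆ ≤ N := by
  rw [Subgroup.commutator_le]
  intro a ha b hb
  obtain ⟨ha1, -⟩ := mem_top_iff.mp ha
  obtain ⟨-, hb2⟩ := mem_top_iff.mp hb
  rw [← QuotientGroup.eq_one_iff, ← QuotientGroup.mk'_apply, map_commutatorElement]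
  exact commutatorElement_eq_one_iff_mul_comm.mpr (hb2 _ ha1)

theorem card_relIndex_top (N : Subgroup G) [N.Normal] :
    N.relIndex (top p N) = Nat.card ((QuotientGroup.mk' N).comp (top p N).subtype).range := by
  rw [← Subgroup.index_ker]
  show (N.subgroupOf (top p N)).index = _
  congr 1
  ext x
  simp [Subgroup.mem_subgroupOf, MonoidHom.mem_ker]

theorem relIndex_top_coprime (N : Subgroup G) [N.Normal] (hcop : (Nat.card N).Coprime p) :
    (N.relIndex (top p N)).Coprime (Nat.card N) := by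
  have hle : ((QuotientGroup.mk' N).comp (top p N).subtype).range ≤ Cfsg.pCore p (G ⧸ N) := by
    rintro _ ⟨x, rfl⟩
    exact (mem_top_iff.mp x.2).1
  obtain ⟨k, hk⟩ := IsPGroup.iff_card.mp ((Cores.pCore_isPGroup (G := G ⧸ N) p).to_le hle)
  rw [card_relIndex_top, hk]
  exact hcop.symm.pow_left k

/-- Lifts of central elements of the `p`-core of a quotient, outside the `p`-core, are
vanishing. -/
theorem van_of_top (N : Subgroup G) [N.Normal] (hN : ∀ a ∈ N, ∀ b ∈ N, a * b = b * a)
    (hcop : (Nat.card N).Coprime p) {x : G} (hx : x ∈ top p N)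
    (hx' : (x : G ⧸ N) ∉ (Cfsg.pCore p G).map (QuotientGroup.mk' N)) : Van p x := by
  have hpN : ¬ p ∣ Nat.card N := fun h => hp.out.ne_one (Nat.dvd_one.mp (hcop ▸ Nat.dvd_gcd h dvd_rfl))
  refine ⟨?_, (dvd_orderOf_of_isPGroup (Cores.pCore_isPGroup p) (mem_top_iff.mp hx).1
    fun h => hx' (h ▸ one_mem _)).trans (orderOf_map_dvd (QuotientGroup.mk' N) x)⟩
  by_contra hv
  have hxc : ∀ n ∈ N, x * n = n * x := fun n hn => by
    by_contra hne
    exact hv (Vanish.exists_zero_of_abelian (top p N) N (le_top N) hN (commutator_top_le N)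
      (relIndex_top_coprime N hcop) hx hn hne)
  -- the `p`-elements of `top p N` centralizing `N` form a normal `p`-subgroup
  let D : Subgroup G := top p N ⊓ Subgroup.centralizer (N : Set G)
  have hcommD : ∀ a ∈ D, ∀ b ∈ D, (∃ i, b ^ p ^ i = 1) → a * b = b * a := by
    rintro a ha b hb ⟨i, hi⟩
    set c := ⁅a, b⁆ with hc
    have hcN : c ∈ N := commutator_top_le N (Subgroup.commutator_mem_commutator ha.1 hb.1)
    have hcb : Commute c b := Subgroup.mem_centralizer_iff.mp hb.2 c hcN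
    have h1 : a * b * a⁻¹ = c * b := by rw [hc, commutatorElement_def]; group
    have h2 := conj_pow (i := p ^ i) (a := a) (b := b)
    rw [h1, hi, mul_one, mul_inv_cancel, hcb.mul_pow, hi, mul_one] at h2
    have h3 : orderOf c = 1 := Nat.eq_one_of_dvd_coprimes
      (hcop.pow_right i) (Subgroup.orderOf_dvd_natCard (s := N) hcN) (orderOf_dvd_of_pow_eq_one h2)
    exact commutatorElement_eq_one_iff_mul_comm.mp (orderOf_eq_one_iff.mp h3)
  let T : Subgroup G :=
    { carrier := {d | d ∈ D ∧ ∃ i, d ^ p ^ i = 1}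
      one_mem' := ⟨one_mem _, 0, one_pow _⟩
      mul_mem' := by
        rintro a b ⟨ha, i, hi⟩ ⟨hb, j, hj⟩
        refine ⟨mul_mem ha hb, i + j, ?_⟩
        rw [(show Commute a b from hcommD a ha b hb ⟨j, hj⟩).mul_pow, pow_add, pow_mul, hi,
          one_pow, one_mul, mul_comm, pow_mul, hj, one_pow]
      inv_mem' := by
        rintro a ⟨ha, i, hi⟩
        exact ⟨inv_mem ha, i, by rw [inv_pow, hi, inv_one]⟩ }
  haveI : T.Normal := ⟨fun d hd g => ⟨Subgroup.Normal.conj_mem inferInstance d hd.1 g, by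
    obtain ⟨i, hi⟩ := hd.2
    exact ⟨i, by rw [conj_pow, hi, mul_one, mul_inv_cancel]⟩⟩⟩
  have hT : IsPGroup p T := fun d => by
    obtain ⟨i, hi⟩ := d.2.2
    exact ⟨i, Subtype.ext (by rw [Subgroup.coe_pow, Subgroup.coe_one]; exact hi)⟩
  obtain ⟨k, m, hm, hkm⟩ := Nat.exists_eq_pow_mul_and_not_dvd (orderOf_pos x).ne' p hp.out.ne_one
  have hco : (p ^ k).Coprime m := (hp.out.coprime_iff_not_dvd.mpr hm).pow_left k
  obtain ⟨s, hs1, hs0⟩ := Nat.chineseRemainder hco 1 0
  have hyT : x ^ s ∈ T := ⟨pow_mem (show x ∈ D from ⟨hx, Subgroup.mem_centralizer_iff.mpr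
    fun n hn => (hxc n hn).symm⟩) s, k, by
      obtain ⟨t, rfl⟩ := Nat.modEq_zero_iff_dvd.mp hs0
      rw [← pow_mul, mul_comm, ← mul_assoc, ← hkm, pow_mul, pow_orderOf_eq_one, one_pow]⟩
  obtain ⟨j, hj⟩ := IsPGroup.iff_orderOf.mp (Cores.pCore_isPGroup (G := G ⧸ N) p)
    ⟨_, (mem_top_iff.mp hx).1⟩
  rw [Subgroup.orderOf_mk] at hj
  have hjk : p ^ j ∣ p ^ k := by
    refine (Nat.Coprime.dvd_of_dvd_mul_right ((hp.out.coprime_iff_not_dvd.mpr hm).pow_left j) ?_)
    rw [← hkm, ← hj]
    exact orderOf_map_dvd (QuotientGroup.mk' N) x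
  refine hx' ⟨x ^ s, Cores.le_pCore hT hyT, ?_⟩
  rw [map_pow, QuotientGroup.mk'_apply]
  conv_rhs => rw [← pow_one (x : G ⧸ N)]
  exact pow_eq_pow_iff_modEq.mpr (hj ▸ hs1.of_dvd hjk)

/-- A nontrivial abelian normal subgroup of order prime to `p`. -/
theorem exists_abelian_normal {r : ℕ} [Fact r.Prime] (hr : r ≠ p) (h : Cfsg.pCore r G ≠ ⊥) :
    ∃ (N : Subgroup G), N.Normal ∧ N ≠ ⊥ ∧ (∀ a ∈ N, ∀ b ∈ N, a * b = b * a) ∧
      (Nat.card N).Coprime p := by
  have hrp : IsPGroup r (Cfsg.pCore r G) := Cores.pCore_isPGroup r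
  haveI : Nontrivial (Cfsg.pCore r G) := (Subgroup.nontrivial_iff_ne_bot _).mpr h
  haveI := hrp.center_nontrivial
  refine ⟨(Subgroup.center (Cfsg.pCore r G)).map (Cfsg.pCore r G).subtype,
    Cores.normal_map_subtype _ _, ?_, ?_, ?_⟩
  · rw [Ne, Subgroup.map_eq_bot_iff_of_injective _ (Subgroup.subtype_injective _)]
    exact (Subgroup.nontrivial_iff_ne_bot _).mp inferInstance
  · rintro _ ⟨a, ha, rfl⟩ _ ⟨b, -, rfl⟩
    exact congrArg Subtype.val (Subgroup.mem_center_iff.mp ha b).symm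
  · obtain ⟨k, hk⟩ := IsPGroup.iff_card.mp ((hrp.to_subgroup
      (Subgroup.center (Cfsg.pCore r G))).map (Cfsg.pCore r G).subtype)
    rw [hk]
    exact ((Nat.coprime_primes Fact.out hp.out).mpr hr).pow_left k

theorem sq_dvd_quotient (N : Subgroup G) (hcop : (Nat.card N).Coprime p)
    (h : p ^ 2 ∣ Nat.card G) : p ^ 2 ∣ Nat.card (G ⧸ N) :=
  Nat.Coprime.dvd_of_dvd_mul_right (hcop.symm.pow_left 2)
    (Subgroup.card_eq_card_quotient_mul_card_subgroup N ▸ h)

theorem card_quotient_lt (N : Subgroup G) (hN : N ≠ ⊥) : Nat.card (G ⧸ N) < Nat.card G := by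
  rw [Subgroup.card_eq_card_quotient_mul_card_subgroup N]
  exact lt_mul_of_one_lt_right Nat.card_pos ((Subgroup.one_lt_card_iff_ne_bot N).mpr hN)

omit [Finite G] in
/-- All vanishing elements of order divisible by `p` in the `p`-core of order `p`. -/
theorem stage_two : ∀ (n : ℕ) (G : Type u) [Group G] [Finite G] [Group.IsSolvable G],
    Nat.card G = n → Nat.card (Cfsg.pCore p G) = p →
    (∀ x : G, Van p x → x ∈ Cfsg.pCore p G) → ¬ p ^ 2 ∣ n := by
  intro n
  induction n using Nat.strong_induction_on with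
  | _ n ih =>
    intro G _ _ _ hn hA hvan hdvd
    subst hn
    by_cases hr : ∃ r : ℕ, r.Prime ∧ r ≠ p ∧ Cfsg.pCore r G ≠ ⊥
    swap
    · push Not at hr
      have hF : Cfsg.fittingSubgroup G ≤ Cfsg.pCore p G := by
        rw [Cores.fittingSubgroup_eq_iSup_pCore]
        refine iSup_le fun r => ?_
        by_cases hrp : (r : ℕ) = p
        · rw [hrp]
        · rw [hr r r.2 hrp]; exact bot_le
      obtain ⟨P⟩ : Nonempty (Sylow p G) := inferInstance
      have hPle : (P : Subgroup G) ≤ Cfsg.pCore p G := fun a ha =>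
        hF (Cores.centralizer_fittingSubgroup_le (Subgroup.mem_centralizer_iff.mpr
          fun f hf => (commute_of_card _ hA P.isPGroup' a ha f (hF hf)).symm))
      have h1 := Subgroup.card_dvd_of_le hPle
      rw [hA] at h1
      have h2 : p ^ 2 ∣ Nat.card (P : Subgroup G) := by
        rw [P.card_eq_multiplicity]
        exact pow_dvd_pow p ((hp.out.pow_dvd_iff_le_factorization Nat.card_pos.ne').mp hdvd)
      have h3 := Nat.le_of_dvd hp.out.pos (h2.trans h1)
      nlinarith [hp.out.two_le]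
    obtain ⟨r, hr1, hr2, hr3⟩ := hr
    haveI := Fact.mk hr1
    obtain ⟨N, hNn, hN1, hNab, hcop⟩ := exists_abelian_normal (p := p) hr2 hr3
    set A := (Cfsg.pCore p G).map (QuotientGroup.mk' N) with hAdef
    haveI : A.Normal := Subgroup.Normal.map inferInstance _ (QuotientGroup.mk'_surjective N)
    have hAU : A ≤ Cfsg.pCore p (G ⧸ N) := Cores.map_pCore_le _ (QuotientGroup.mk'_surjective N)
    have hAcard : Nat.card A = p := by
      rw [← hA]
      refine Nat.card_congr (Equiv.symm (Equiv.ofBijective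
        (fun a : Cfsg.pCore p G => (⟨QuotientGroup.mk' N a, a, a.2, rfl⟩ : A)) ⟨?_, ?_⟩))
      · intro a b hab
        have h1 : (a : G)⁻¹ * b ∈ N := QuotientGroup.eq.mp (congrArg Subtype.val hab)
        have h2 : orderOf ((a : G)⁻¹ * b) = 1 := Nat.eq_one_of_dvd_coprimes hcop
          (Subgroup.orderOf_dvd_natCard (s := N) h1)
          ((Subgroup.orderOf_dvd_natCard (s := Cfsg.pCore p G)
            (mul_mem (inv_mem a.2) b.2)).trans hA.dvd)
        exact Subtype.ext (inv_mul_eq_one.mp (orderOf_eq_one_iff.mp h2))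
      · rintro ⟨_, a, ha, rfl⟩
        exact ⟨⟨a, ha⟩, rfl⟩
    have hvan' : ∀ x : G ⧸ N, Van p x → x ∈ A := fun x hx => by
      obtain ⟨g, rfl⟩ := QuotientGroup.mk'_surjective N x
      exact ⟨g, hvan g (van_lift _ (QuotientGroup.mk'_surjective N) hx), rfl⟩
    have hUA : Cfsg.pCore p (G ⧸ N) = A := by
      by_contra hne
      obtain ⟨u, hu, huA⟩ := exists_van_of_lt A _ hAcard (Cores.pCore_isPGroup p) hAU hne
        (fun z hz hzc => by
          by_contra hzA
          obtain ⟨x, rfl⟩ := QuotientGroup.mk'_surjective N z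
          exact hzA ⟨x, hvan x (van_of_top N hNab hcop (mem_top_iff.mpr ⟨hz, hzc⟩) hzA), rfl⟩)
      exact huA (hvan' u hu)
    exact ih _ (card_quotient_lt N hN1) (G ⧸ N) rfl (by rw [hUA]; exact hAcard)
      (fun x hx => by rw [hUA]; exact hvan' x hx) (sq_dvd_quotient N hcop hdvd)

omit [Finite G] in
/-- One vanishing class of elements of order divisible by `p`, and trivial `p`-core. -/
theorem stage_one (hp2 : p ≠ 2) : ∀ (n : ℕ) (G : Type u) [Group G] [Finite G]
    [Group.IsSolvable G], Nat.card G = n → Cfsg.pCore p G = ⊥ →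
    (∀ x y : G, Van p x → Van p y → IsConj x y) → ¬ p ^ 2 ∣ n := by
  intro n
  induction n using Nat.strong_induction_on with
  | _ n ih =>
    intro G _ _ _ hn hR hconj hdvd
    subst hn
    haveI : Nontrivial G := by
      rw [← Finite.one_lt_card_iff_nontrivial]
      have h1 := Nat.le_of_dvd Nat.card_pos hdvd
      nlinarith [hp.out.two_le]
    obtain ⟨r, hr1, hr2, hr3⟩ : ∃ r : ℕ, r.Prime ∧ r ≠ p ∧ Cfsg.pCore r G ≠ ⊥ := by
      by_contra h
      push Not at h
      refine Cores.fittingSubgroup_ne_bot (G := G) (le_bot_iff.mp ?_)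
      rw [Cores.fittingSubgroup_eq_iSup_pCore]
      refine iSup_le fun r => ?_
      by_cases hrp : (r : ℕ) = p
      · rw [hrp, hR]
      · rw [h r r.2 hrp]
    haveI := Fact.mk hr1
    obtain ⟨N, hNn, hN1, hNab, hcop⟩ := exists_abelian_normal (p := p) hr2 hr3
    have hconj' : ∀ x y : G ⧸ N, Van p x → Van p y → IsConj x y := fun x y hx hy => by
      obtain ⟨g, rfl⟩ := QuotientGroup.mk'_surjective N x
      obtain ⟨h, rfl⟩ := QuotientGroup.mk'_surjective N y
      exact MonoidHom.map_isConj _ (hconj g h (van_lift _ (QuotientGroup.mk'_surjective N) hx)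
        (van_lift _ (QuotientGroup.mk'_surjective N) hy))
    by_cases hU : Cfsg.pCore p (G ⧸ N) = ⊥
    · exact ih _ (card_quotient_lt N hN1) (G ⧸ N) rfl hU hconj' (sq_dvd_quotient N hcop hdvd)
    let φ := (QuotientGroup.mk' N).comp (top p N).subtype
    let A : Subgroup (G ⧸ N) := φ.range
    have hAmem : ∀ z, z ∈ A ↔ z ∈ Cfsg.pCore p (G ⧸ N) ∧
        ∀ w ∈ Cfsg.pCore p (G ⧸ N), w * z = z * w := fun z => by
      constructor
      · rintro ⟨x, rfl⟩; exact mem_top_iff.mp x.2
      · intro h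
        obtain ⟨x, rfl⟩ := QuotientGroup.mk'_surjective N z
        exact ⟨⟨x, mem_top_iff.mpr h⟩, rfl⟩
    haveI : A.Normal := by
      have : A = (top p N).map (QuotientGroup.mk' N) := by
        rw [show A = φ.range from rfl, MonoidHom.range_comp, Subgroup.range_subtype]
      rw [this]
      exact Subgroup.Normal.map inferInstance _ (QuotientGroup.mk'_surjective N)
    have hAU : A ≤ Cfsg.pCore p (G ⧸ N) := fun z hz => ((hAmem z).mp hz).1
    have hAp : IsPGroup p A := (Cores.pCore_isPGroup p).to_le hAU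
    haveI : Nontrivial A := by
      haveI : Nontrivial (Cfsg.pCore p (G ⧸ N)) := (Subgroup.nontrivial_iff_ne_bot _).mpr hU
      haveI := (Cores.pCore_isPGroup (G := G ⧸ N) p).center_nontrivial
      obtain ⟨⟨z, hz⟩, hz1⟩ := exists_ne (1 : Subgroup.center (Cfsg.pCore p (G ⧸ N)))
      refine ⟨⟨(z : G ⧸ N), (hAmem _).mpr ⟨z.2, fun w hw =>
        congrArg Subtype.val (Subgroup.mem_center_iff.mp hz ⟨w, hw⟩)⟩⟩, 1, fun h => ?_⟩
      exact hz1 (Subtype.ext (Subtype.ext (congrArg Subtype.val h :)))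
    have hvanB : ∀ x ∈ top p N, x ∉ N → Van p x := fun x hx hxN =>
      van_of_top N hNab hcop hx (by
        rw [hR, Subgroup.map_bot, Subgroup.mem_bot]
        exact fun h => hxN ((QuotientGroup.eq_one_iff x).mp h))
    -- the elements outside `N` have order `p`
    have hord : ∀ x ∈ top p N, x ∉ N → orderOf x = p := by
      have hpB : p ∣ Nat.card (top p N) := (hAp.card_eq_or_dvd.resolve_left
        (Finite.one_lt_card_iff_nontrivial.mpr inferInstance).ne').trans
          (Subgroup.card_dvd_of_surjective φ.rangeRestrict φ.rangeRestrict_surjective)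
      obtain ⟨⟨y, hy⟩, hyo⟩ := exists_prime_orderOf_dvd_card' p hpB
      rw [Subgroup.orderOf_mk] at hyo
      have hyN : y ∉ N := fun h => hp.out.ne_one (Nat.eq_one_of_dvd_coprimes hcop
        (hyo ▸ Subgroup.orderOf_dvd_natCard (s := N) h) dvd_rfl)
      intro x hx hxN
      obtain ⟨g, rfl⟩ := isConj_iff.mp (hconj y x (hvanB y hy hyN) (hvanB x hx hxN))
      rw [← MulAut.conj_apply, MulEquiv.orderOf_eq, hyo]
    -- so the centre of the `p`-core is cyclic of order `p`
    letI : CommGroup N := { (inferInstance : Group N) with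
      mul_comm := fun a b => Subtype.ext (hNab a a.2 b b.2) }
    let f : top p N →* MulAut N := (MulAut.conjNormal (H := N)).comp (top p N).subtype
    have hfix : ∀ b : top p N, (b : G) ∉ N → ∀ n : N, f b n = n → n = 1 := by
      intro b hb n hn
      have hc : Commute (b : G) n := mul_inv_eq_iff_eq_mul.mp (congrArg Subtype.val hn)
      have hbn : ((b : G) * n) ∉ N := fun h => hb (by simpa using mul_mem h (inv_mem n.2))
      have h1 := hord _ (mul_mem b.2 (le_top N n.2)) hbn
      have h2 : ((b : G) * n) ^ p = 1 := by rw [← orderOf_dvd_iff_pow_eq_one, h1]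
      have h3 : (b : G) ^ p = 1 := by rw [← orderOf_dvd_iff_pow_eq_one, hord _ b.2 hb]
      rw [hc.mul_pow, h3, one_mul] at h2
      exact Subtype.ext (orderOf_eq_one_iff.mp (Nat.eq_one_of_dvd_coprimes hcop
        (Subgroup.orderOf_dvd_natCard (s := N) n.2) (orderOf_dvd_of_pow_eq_one h2)))
    haveI : Nontrivial N := (Subgroup.nontrivial_iff_ne_bot N).mpr hN1
    have hker : f.ker = φ.ker := by
      ext b
      rw [MonoidHom.mem_ker, MonoidHom.mem_ker]
      show _ ↔ ((b : G) : G ⧸ N) = 1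
      rw [QuotientGroup.eq_one_iff]
      constructor
      · intro h
        by_contra hb
        obtain ⟨n, hn⟩ := exists_ne (1 : N)
        exact hn (hfix b hb n (by rw [h]; rfl))
      · intro h
        refine MulEquiv.ext fun n => Subtype.ext ?_
        show (b : G) * n * (b : G)⁻¹ = n
        rw [hNab _ h _ n.2, mul_inv_cancel_right]
    have hcardL : Nat.card f.range = Nat.card A := by
      rw [← Subgroup.index_ker, hker, Subgroup.index_ker]
    have hL : IsPGroup p f.range := by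
      obtain ⟨k, hk⟩ := IsPGroup.iff_card.mp hAp
      exact IsPGroup.iff_card.mpr ⟨k, hcardL.trans hk⟩
    haveI : IsCyclic f.range := by
      refine SylowInter.OddCyclic.isCyclic_of_fpf (ρ := f.range.subtype) ?_ hp2 hL
      rintro ⟨_, b, rfl⟩ hl n hn
      refine hfix b (fun h => hl (Subtype.ext ?_)) n hn
      have : b ∈ f.ker := by
        rw [hker, MonoidHom.mem_ker]
        exact (QuotientGroup.eq_one_iff (b : G)).mpr h
      exact MonoidHom.mem_ker.mp this
    have hAcard : Nat.card A = p := by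
      rw [← hcardL]
      obtain ⟨⟨_, b, rfl⟩, hgen⟩ := IsCyclic.exists_ofOrder_eq_natCard (α := f.range)
      have hgen' : orderOf (f b) = Nat.card f.range := (Subgroup.orderOf_coe _).trans hgen
      rw [← hgen']
      have h1 : orderOf (f b) ∣ p := by
        by_cases hb : (b : G) ∈ N
        · have : b ∈ f.ker := by
            rw [hker, MonoidHom.mem_ker]
            exact (QuotientGroup.eq_one_iff (b : G)).mpr hb
          rw [MonoidHom.mem_ker.mp this, orderOf_one]
          exact one_dvd _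
        · exact (orderOf_map_dvd f b).trans
            ((Subgroup.orderOf_coe b).symm.trans (hord _ b.2 hb)).dvd
      refine (hp.out.eq_one_or_self_of_dvd _ h1).resolve_left fun h => ?_
      rw [h] at hgen'
      have : 1 < Nat.card A := Finite.one_lt_card_iff_nontrivial.mpr inferInstance
      omega
    -- all vanishing elements of the quotient lie there
    obtain ⟨z, hz⟩ := exists_ne (1 : A)
    obtain ⟨x₀, hx₀⟩ := z.2
    have hvanA : ∀ x : G ⧸ N, Van p x → x ∈ A := fun x hx => by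
      obtain ⟨g, rfl⟩ := QuotientGroup.mk'_surjective N x
      obtain ⟨c, rfl⟩ := isConj_iff.mp (hconj x₀ g (hvanB x₀ x₀.2 fun h => hz (Subtype.ext (by
        rw [← hx₀]; exact (QuotientGroup.eq_one_iff (x₀ : G)).mpr h)))
        (van_lift _ (QuotientGroup.mk'_surjective N) hx))
      rw [map_mul, map_mul, map_inv]
      exact Subgroup.Normal.conj_mem (H := A) inferInstance _ ⟨x₀, rfl⟩ _
    have hUA : Cfsg.pCore p (G ⧸ N) = A := by
      by_contra hne
      obtain ⟨u, hu, huA⟩ := exists_van_of_lt A _ hAcard (Cores.pCore_isPGroup p) hAU hne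
        (fun w hw hwc => (hAmem w).mpr ⟨hw, hwc⟩)
      exact huA (hvanA u hu)
    exact stage_two _ (G ⧸ N) rfl (by rw [hUA]; exact hAcard) (fun x hx => by rw [hUA]; exact hvanA x hx)
      (sq_dvd_quotient N hcop hdvd)

/-- The order of a Sylow subgroup is at most `p` times that of the `p`-core. -/
theorem card_sylow_le [Group.IsSolvable G] (hp2 : p ≠ 2)
    (hconj : ∀ x y : G, Van p x → Van p y → IsConj x y) (P : Sylow p G) :
    Nat.card (P : Subgroup G) ≤ p * Nat.card (Cfsg.pCore p G) := by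
  have h := stage_one (p := p) hp2 _ (G ⧸ Cfsg.pCore p G) rfl (Cores.pCore_quotient_pCore p)
    fun x y hx hy => by
      obtain ⟨g, rfl⟩ := QuotientGroup.mk'_surjective (Cfsg.pCore p G) x
      obtain ⟨h, rfl⟩ := QuotientGroup.mk'_surjective (Cfsg.pCore p G) y
      exact MonoidHom.map_isConj _ (hconj g h (van_lift _ (QuotientGroup.mk'_surjective _) hx)
        (van_lift _ (QuotientGroup.mk'_surjective _) hy))
  obtain ⟨k, hk⟩ := IsPGroup.iff_card.mp P.isPGroup'
  obtain ⟨r, hr⟩ := IsPGroup.iff_card.mp (Cores.pCore_isPGroup (G := G) p)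
  rw [hk, hr, ← pow_succ']
  refine Nat.pow_le_pow_right hp.out.pos ?_
  by_contra hlt
  apply h
  have h1 : p ^ (2 + r) ∣ Nat.card G :=
    (pow_dvd_pow p (by omega : 2 + r ≤ k)).trans (hk ▸ Subgroup.card_subgroup_dvd_card _)
  rw [Subgroup.card_eq_card_quotient_mul_card_subgroup (Cfsg.pCore p G), hr, pow_add] at h1
  exact Nat.dvd_of_mul_dvd_mul_right (pow_pos hp.out.pos r) h1

end Cfsg.Agent.Lib.OneVanishing.Main
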