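import Mathlib

/-!
# Regular orbits of abelian groups acting coprimely on abelian groups
-/

set_option autoImplicit false

namespace Cfsg.Agent.Lib.OneVanishing.Orbit

/-- A commuting coprime group of automorphisms has an element with trivial stabilizer. -/
theorem exists_free_point {W : Type*} [CommGroup W] [Finite W] {B : Type*} [Group B]
    (f : B →* MulAut W) (hcomm : ∀ a b, f a * f b = f b * f a)
    (hcop : (Nat.card f.range).Coprime (Nat.card W)) :
    ∃ w, ∀ b, f b w = w → f b = 1 := by
  classical
  haveI : Fintype f.range := Fintype.ofFinite _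
  let St : W → Subgroup f.range := fun w =>
    { carrier := {a | (a : MulAut W) w = w}
      one_mem' := rfl
      mul_mem' := fun {a b} ha hb => by
        simp only [Set.mem_ofPred_eq] at ha hb ⊢
        rw [Subgroup.coe_mul, MulAut.mul_apply, hb, ha]
      inv_mem' := fun {a} ha => by
        simp only [Set.mem_ofPred_eq] at ha ⊢
        conv_lhs => rw [← ha]
        rw [← MulAut.mul_apply, ← Subgroup.coe_mul, inv_mul_cancel, Subgroup.coe_one,
          MulAut.one_apply] }
  obtain ⟨w, hw⟩ := Finite.exists_min fun w => Nat.card (St w)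
  refine ⟨w, ?_⟩
  by_contra hcon
  push Not at hcon
  obtain ⟨b₀, hb₀, hne⟩ := hcon
  obtain ⟨x, hx⟩ : ∃ x, f b₀ x ≠ x := by
    by_contra h
    push Not at h
    exact hne (MulEquiv.ext h)
  set S := St w with hS
  -- the averaging map of the stabilizer
  let e : W →* W :=
    { toFun := fun v => ∏ s : S, ((s : f.range) : MulAut W) v
      map_one' := by simp
      map_mul' := fun u v => by simp [Finset.prod_mul_distrib] }
  have he : ∀ (t : S) v, ((t : f.range) : MulAut W) (e v) = e v := fun t v => by
    show ((t : f.range) : MulAut W) (∏ s : S, ((s : f.range) : MulAut W) v) = _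
    rw [map_prod]
    refine Fintype.prod_equiv (Equiv.mulLeft t) _ _ fun s => ?_
    rw [Equiv.coe_mulLeft, Subgroup.coe_mul, Subgroup.coe_mul, MulAut.mul_apply]
  have hec : ∀ b v, f b (e v) = e (f b v) := fun b v => by
    show f b (∏ s : S, ((s : f.range) : MulAut W) v) =
      ∏ s : S, ((s : f.range) : MulAut W) (f b v)
    rw [map_prod]
    refine Finset.prod_congr rfl fun s _ => ?_
    obtain ⟨c, hc⟩ := (s : f.range).2
    rw [← hc, ← MulAut.mul_apply, ← MulAut.mul_apply, hcomm]
  set m := Fintype.card S with hm
  have hfix : ∀ v, (∀ t : S, ((t : f.range) : MulAut W) v = v) → e v = v ^ m := fun v hv => by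
    show ∏ s : S, ((s : f.range) : MulAut W) v = _
    rw [Finset.prod_congr rfl fun s _ => hv s, Finset.prod_const, Finset.card_univ]
  have hcopm : (Nat.card W).Coprime m := by
    rw [hm, ← Nat.card_eq_fintype_card]
    exact (hcop.coprime_dvd_left (Subgroup.card_subgroup_dvd_card S)).symm
  have hpow : ∀ v : W, v ^ m = 1 → v = 1 := fun v hv =>
    (powCoprime hcopm).injective (by rw [powCoprime_apply, powCoprime_apply, hv, one_pow])
  -- a vector killed by the averaging map and moved by `b₀`
  set y := x ^ m / e x with hy
  have hey : e y = 1 := by rw [hy, map_div, map_pow, hfix _ fun t => he t x, div_self']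
  have hby : f b₀ y ≠ y := by
    intro h
    apply hx
    have h1 : f b₀ (e x) = e x := he ⟨⟨f b₀, b₀, rfl⟩, hb₀⟩ x
    rw [hy, map_div, h1, div_left_inj, map_pow] at h
    exact (powCoprime hcopm).injective (by rw [powCoprime_apply, powCoprime_apply]; exact h)
  have hle : St (w * y) ≤ S := by
    intro a ha
    change (a : MulAut W) (w * y) = w * y at ha
    show (a : MulAut W) w = w
    obtain ⟨c, hc⟩ := a.2
    rw [← hc] at ha ⊢
    rw [map_mul] at ha
    have h2 := congrArg e ha
    rw [map_mul, map_mul, ← hec, ← hec, hey, map_one, mul_one, mul_one,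
      hfix w fun t => t.2, map_pow] at h2
    exact (powCoprime hcopm).injective (by rw [powCoprime_apply, powCoprime_apply]; exact h2)
  have hlt : Nat.card (St (w * y)) < Nat.card S := by
    refine lt_of_le_of_ne (Subgroup.card_le_of_le hle) fun hcard => ?_
    have heq := Subgroup.eq_of_le_of_card_ge hle hcard.ge
    have hmem : (⟨f b₀, b₀, rfl⟩ : f.range) ∈ St (w * y) := heq ▸ (hb₀ : _ ∈ S)
    change f b₀ (w * y) = w * y at hmem
    rw [map_mul, hb₀] at hmem
    exact hby (mul_left_cancel hmem)
  exact absurd (hw (w * y)) (not_le.mpr hlt)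

end Cfsg.Agent.Lib.OneVanishing.Orbit
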