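import Cfsg.Agent.Lib.OneVanishing.Orbit
import Cfsg.Agent.Lib.Clifford.Basic
import Cfsg.Agent.Lib.Clifford.Rep
import Cfsg.Agent.Lib.Characters.Linear

/-!
# Elements on which some irreducible character vanishes
-/

set_option autoImplicit false

namespace Cfsg.Agent.Lib.OneVanishing.Vanish

open Cfsg.Agent.Lib Cfsg.Agent.Lib.Characters.Basic
open scoped commutatorElement

universe u

variable {G : Type u} [Group G] [Finite G]

/-- An element moved, up to a central factor in a normal subgroup of prime order, is vanishing. -/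
theorem exists_zero_of_commutator {p : ℕ} [Fact p.Prime] (A : Subgroup G) [A.Normal]
    (hA : Nat.card A = p) {u w : G} (hwA : ∀ a ∈ A, w * a = a * w) (hc : ⁅w, u⁆ ∈ A)
    (hne : ⁅w, u⁆ ≠ 1) : ∃ χ : Cfsg.IrrCharacter G, (χ : G → ℂ) u = 0 := by
  classical
  haveI := Fintype.ofFinite G
  set a := ⁅w, u⁆ with ha
  obtain ⟨χ, hχ⟩ : ∃ χ : Cfsg.IrrCharacter G, (χ : G → ℂ) a ≠ (χ : G → ℂ) 1 := by
    by_contra h
    push Not at h
    exact hne (Characters.Complete.eq_one_of_forall_irr h)
  obtain ⟨n, ρ, hρ, hρc⟩ := exists_rep χ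
  haveI := hρ
  refine ⟨χ, ?_⟩
  -- all translates have the same value
  have hai : ∀ i : ℕ, (χ : G → ℂ) (a ^ i * u) = (χ : G → ℂ) u := by
    intro i
    induction i with
    | zero => rw [pow_zero, one_mul]
    | succ i ih =>
      have h1 : w * (a ^ i * u) * w⁻¹ = a ^ (i + 1) * u := by
        have h2 : w * a ^ i = a ^ i * w := hwA _ (pow_mem hc i)
        rw [← mul_assoc, h2, pow_succ, ha, commutatorElement_def]
        group
      rw [← h1]
      exact (isClassFunction_irr χ (a ^ i * u) w).trans ih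
  haveI := Fintype.ofFinite A
  have hgen : ∀ z : A, (χ : G → ℂ) ((z : G) * u) = (χ : G → ℂ) u := fun z => by
    obtain ⟨i, hi⟩ := (mem_powers_iff_mem_zpowers (x := (⟨a, hc⟩ : A))).mpr
      (mem_zpowers_of_prime_card hA (g := ⟨a, hc⟩) (g' := z) fun h => hne (congrArg Subtype.val h))
    rw [← hi]
    exact hai i
  -- the sum over the subgroup acts as zero
  let P : Module.End ℂ (Fin n → ℂ) := ∑ z : A, ρ (z : G)
  obtain ⟨c, hcP⟩ := Clifford.Rep.schur ρ P fun g => by
    simp only [P, Finset.sum_mul, Finset.mul_sum, ← map_mul]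
    refine Fintype.sum_equiv (MulAut.conjNormal g⁻¹).toEquiv _ _ fun z => ?_
    congr 1
    show (z : G) * g = g * ((MulAut.conjNormal g⁻¹ z : A) : G)
    rw [MulAut.conjNormal_apply]
    group
  have hP0 : c = 0 := by
    by_contra hc0
    have h1 : ρ a * P = P := by
      simp only [P, Finset.mul_sum, ← map_mul]
      exact Fintype.sum_equiv (Equiv.mulLeft (⟨a, hc⟩ : A)) _ _ fun z => rfl
    rw [hcP, mul_smul_comm, mul_one] at h1
    have h2 : ρ a = 1 := smul_right_injective _ hc0 h1
    exact hχ (by rw [← hρc]; simp [Representation.character, h2])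
  have h0 : ∑ z : A, (χ : G → ℂ) ((z : G) * u) = 0 := by
    have h1 : P * ρ u = 0 := by rw [hcP, hP0, zero_smul, zero_mul]
    have := congrArg (LinearMap.trace ℂ (Fin n → ℂ)) h1
    simp only [P, Finset.sum_mul, ← map_mul, map_sum, map_zero] at this
    rw [← hρc]
    exact this
  rw [Finset.sum_congr rfl fun z _ => hgen z, Finset.sum_const, Finset.card_univ,
    ← Nat.card_eq_fintype_card, hA, nsmul_eq_mul, mul_eq_zero] at h0
  exact h0.resolve_left (Nat.cast_ne_zero.mpr (Fact.out : p.Prime).ne_zero)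

set_option maxHeartbeats 1000000 in
/-- An element of a normal subgroup inducing, with it, a commuting coprime group of automorphisms
on an abelian normal subgroup is vanishing unless it centralizes that subgroup. -/
theorem exists_zero_of_abelian (B N : Subgroup G) [B.Normal] [N.Normal] (hNB : N ≤ B)
    (hN : ∀ a ∈ N, ∀ b ∈ N, a * b = b * a) (hBN : ⁅B, B⁆ ≤ N)
    (hcop : (N.relIndex B).Coprime (Nat.card N)) {x : G} (hxB : x ∈ B) {n₀ : G} (hn₀ : n₀ ∈ N)
    (hx : x * n₀ ≠ n₀ * x) : ∃ χ : Cfsg.IrrCharacter G, (χ : G → ℂ) x = 0 := by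
  classical
  haveI := Fintype.ofFinite G
  letI : CommGroup N := { (inferInstance : Group N) with
    mul_comm := fun a b => Subtype.ext (hN a a.2 b b.2) }
  let act : G →* MulAut (N →* ℂˣ) :=
    { toFun := fun g =>
        { toFun := fun l => l.comp (MulAut.conjNormal g⁻¹ : MulAut N).toMonoidHom
          invFun := fun l => l.comp (MulAut.conjNormal g : MulAut N).toMonoidHom
          left_inv := fun l => MonoidHom.ext fun n => congrArg l (Subtype.ext (by simp [mul_assoc]))
          right_inv := fun l => MonoidHom.ext fun n => congrArg l (Subtype.ext (by simp [mul_assoc]))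
          map_mul' := fun _ _ => MonoidHom.ext fun _ => rfl }
      map_one' := MulEquiv.ext fun l => MonoidHom.ext fun n => congrArg l (Subtype.ext (by simp))
      map_mul' := fun g h => MulEquiv.ext fun l => MonoidHom.ext fun n =>
        congrArg l (Subtype.ext (by simp [mul_assoc])) }
  let f := act.comp B.subtype
  have htriv : ∀ m ∈ N, act m = 1 := fun m hm =>
    MulEquiv.ext fun l => MonoidHom.ext fun n => congrArg l (Subtype.ext (by
      show ((MulAut.conjNormal m⁻¹ n : N) : G) = n
      rw [MulAut.conjNormal_apply, inv_inv, mul_assoc, hN n n.2 m hm, inv_mul_cancel_left]))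
  have hcomm : ∀ a b : B, f a * f b = f b * f a := fun a b => by
    have h1 : act ⁅(a : G), (b : G)⁆ = 1 :=
      htriv _ (hBN (Subgroup.commutator_mem_commutator a.2 b.2))
    have h2 : act (a : G) * act (b : G) =
        act ⁅(a : G), (b : G)⁆ * (act (b : G) * act (a : G)) := by
      rw [← map_mul, ← map_mul, ← map_mul, commutatorElement_def]
      congr 1
      group
    rw [h1, one_mul] at h2
    exact h2
  haveI : Finite (N →* ℂˣ) :=
    Finite.of_equiv N (CommGroup.monoidHom_mulEquiv_of_hasEnoughRootsOfUnity N ℂ).some.symm.toEquiv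
  have hcard : Nat.card (N →* ℂˣ) = Nat.card N :=
    Nat.card_congr (CommGroup.monoidHom_mulEquiv_of_hasEnoughRootsOfUnity N ℂ).some.toEquiv
  have hrange : (Nat.card f.range).Coprime (Nat.card (N →* ℂˣ)) := by
    rw [hcard]
    refine hcop.coprime_dvd_left ?_
    rw [← Subgroup.index_ker]
    exact Subgroup.index_dvd_of_le fun b hb => htriv b (Subgroup.mem_subgroupOf.mp hb)
  obtain ⟨l, hl⟩ := Orbit.exists_free_point (W := (N →* ℂˣ)) f hcomm hrange
  let θ := Characters.Linear.linChar l
  obtain ⟨χ, hχ⟩ : ∃ χ : Cfsg.IrrCharacter G,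
      Cfsg.classInner (fun n : N => (χ : G → ℂ) n) θ ≠ 0 := by
    by_contra h
    push Not at h
    have hne : Cfsg.indFun N (θ : N → ℂ) ≠ 0 := fun h0 => by
      have h1 := congrFun h0 1
      rw [Induced.Basic.indFun_one] at h1
      exact mul_ne_zero (Nat.cast_ne_zero.mpr Subgroup.index_ne_zero_of_finite)
        (apply_one_ne_zero θ) h1
    obtain ⟨χ, hχ⟩ := Clifford.Basic.exists_constituent
      (Induced.Character.isCharacter_indFun N (isCharacter_irr θ)) hne
    rw [Induced.Basic.frobenius_reciprocity N _ (isClassFunction_irr χ)] at hχ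
    exact Clifford.Basic.classInner_ne_zero_symm hχ (h χ)
  haveI := Fintype.ofFinite (Clifford.Basic.inertia N (θ : N → ℂ))
  obtain ⟨ψ, -, hind, -, -⟩ := Clifford.Basic.exists_correspondent N χ.2 θ hχ
    (Clifford.Basic.inertia N (θ : N → ℂ)) rfl
    (Clifford.Basic.le_inertia N (isClassFunction_irr θ))
  refine ⟨χ, ?_⟩
  rw [← hind, Cfsg.indFun, Finset.sum_eq_zero, mul_zero]
  intro g _
  refine Induced.Basic.extendByZero_of_not_mem _ _ fun hmem => ?_
  set y := g⁻¹ * x * g with hy
  have hyB : y ∈ B := by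
    simpa [hy] using Subgroup.Normal.conj_mem inferInstance x hxB g⁻¹
  have hfy : f ⟨y, hyB⟩ = 1 := by
    have h1 : f ⟨y, hyB⟩⁻¹ l = l := MonoidHom.ext fun n => by
      have h2 := congrFun ((Clifford.Basic.mem_inertia N).mp hmem) n
      rw [Clifford.Basic.conjC_apply, Characters.Linear.linChar_apply,
        Characters.Linear.linChar_apply] at h2
      show l (MulAut.conjNormal (y⁻¹)⁻¹ n) = l n
      refine Units.ext ((congrArg (fun z => (l z : ℂ)) (Subtype.ext ?_)).trans h2)
      simp
    have h3 := hl _ h1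
    rwa [map_inv, inv_eq_one] at h3
  -- so `y` centralizes the subgroup
  have hyc : ∀ n : N, (MulAut.conjNormal y⁻¹ : MulAut N) n = n := fun n => by
    rw [← CommGroup.forall_apply_eq_apply_iff N (M := ℂ)]
    intro m
    exact congrArg (fun e : N →* ℂˣ => e n) (DFunLike.congr_fun hfy m)
  apply hx
  have h4 := congrArg Subtype.val (hyc ⟨g⁻¹ * n₀ * g, by
    simpa using Subgroup.Normal.conj_mem inferInstance n₀ hn₀ g⁻¹⟩)
  simp only [MulAut.conjNormal_apply, inv_inv] at h4
  have h5 : x⁻¹ * n₀ * x = n₀ := by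
    have := congrArg (fun z => g * z * g⁻¹) h4
    simpa [hy, mul_assoc] using this
  conv_lhs => rw [← h5]
  group

end Cfsg.Agent.Lib.OneVanishing.Vanish
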